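import Mathlib

/-!
# Algebraic independence over a local ring can be tested modulo the maximal ideal, for flat algebras
-/

set_option linter.style.haveILetI false
set_option linter.unusedVariables false
set_option linter.unusedSectionVars false
set_option autoImplicit false
set_option backward.isDefEq.respectTransparency.types false
set_option synthInstance.maxHeartbeats 400000
set_option maxHeartbeats 1600000

universe u

namespace Groth.Agent.Helper7.FibTrdeg

open IsLocalRing TensorProduct

/-- A family whose monomials are linearly independent is algebraically independent. -/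
theorem algebraicIndependent_of_linearIndependent {R A : Type*} [CommRing R] [CommRing A]
    [Algebra R A] {ι : Type*} (x : ι → A)
    (h : LinearIndependent R
      (fun α : ι →₀ ℕ => MvPolynomial.aeval x (MvPolynomial.monomial α (1 : R)))) :
    AlgebraicIndependent R x := by
  have hb : (fun α : ι →₀ ℕ => MvPolynomial.aeval x (MvPolynomial.monomial α (1 : R))) =
      (MvPolynomial.aeval x).toLinearMap ∘ (MvPolynomial.basisMonomials ι R) := by
    funext α
    simp [MvPolynomial.coe_basisMonomials]
  rw [hb] at h
  rw [algebraicIndependent_iff]
  intro p hp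
  have h1 := (MvPolynomial.basisMonomials ι R).linearCombination_repr p
  have h2 : Finsupp.linearCombination R
      ((MvPolynomial.aeval x).toLinearMap ∘ (MvPolynomial.basisMonomials ι R))
      ((MvPolynomial.basisMonomials ι R).repr p) = 0 := by
    rw [← Finsupp.apply_linearCombination, h1]
    exact hp
  have h3 := linearIndependent_iff.mp h _ h2
  rw [← h1, h3, map_zero]

/-- Let `B` be flat over the local ring `A`, and `𝔔` an ideal of `B` containing `𝔪_A B`. A family
`t` in `B` such that every polynomial relation modulo `𝔔` has all coefficients in `𝔪_A` is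
algebraically independent over `A`. -/
theorem algebraicIndependent_of_flat {A B : Type u} [CommRing A] [CommRing B] [Algebra A B]
    [IsLocalRing A] [Module.Flat A B] {ι : Type*} (t : ι → B) (𝔔 : Ideal B)
    (hm : (maximalIdeal A).map (algebraMap A B) ≤ 𝔔)
    (h : ∀ P : MvPolynomial ι A, MvPolynomial.aeval t P ∈ 𝔔 →
      ∀ α, P.coeff α ∈ maximalIdeal A) :
    AlgebraicIndependent A t := by
  classical
  apply algebraicIndependent_of_linearIndependent
  apply Module.IsLocalRing.linearIndependent_of_flat
  rw [linearIndependent_iff]
  intro l hl
  obtain ⟨a, rfl⟩ := Finsupp.mapRange_surjective (residue A) (map_zero _)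
    IsLocalRing.residue_surjective l
  have hP : MvPolynomial.aeval t (∑ α ∈ a.support, MvPolynomial.monomial α (a α)) =
      ∑ α ∈ a.support, a α • MvPolynomial.aeval t (MvPolynomial.monomial α (1 : A)) := by
    rw [map_sum]
    refine Finset.sum_congr rfl fun α _ => ?_
    rw [← map_smul, MvPolynomial.smul_monomial, smul_eq_mul, mul_one]
  have hker0 : (TensorProduct.mk A (ResidueField A) B 1)
      (∑ α ∈ a.support, a α • MvPolynomial.aeval t (MvPolynomial.monomial α (1 : A))) = 0 := by
    rw [map_sum]
    rw [Finsupp.linearCombination_apply, Finsupp.sum_mapRange_index] at hl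
    swap
    · intro i
      exact zero_smul _ _
    rw [Finsupp.sum] at hl
    refine Eq.trans ?_ hl
    refine Finset.sum_congr rfl fun α _ => ?_
    simp only [Function.comp_apply]
    rw [map_smul, ← algebraMap_smul (ResidueField A) (a α),
      IsLocalRing.ResidueField.algebraMap_eq]
  have hker : (∑ α ∈ a.support, a α • MvPolynomial.aeval t (MvPolynomial.monomial α (1 : A))) ∈
      maximalIdeal A • (⊤ : Submodule A B) := by
    rw [← LinearMap.ker_tensorProductMk]
    exact hker0
  have hQ : (∑ α ∈ a.support, a α • MvPolynomial.aeval t (MvPolynomial.monomial α (1 : A))) ∈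
      𝔔 := by
    refine Submodule.smul_induction_on hker (fun r hr n _ => ?_) (fun x y hx hy => 𝔔.add_mem hx hy)
    rw [Algebra.smul_def]
    exact Ideal.mul_mem_right _ _ (hm (Ideal.mem_map_of_mem _ hr))
  rw [← hP] at hQ
  have hc := h _ hQ
  ext α
  rw [Finsupp.mapRange_apply, Finsupp.zero_apply, IsLocalRing.residue_eq_zero_iff]
  have h5 := hc α
  rw [MvPolynomial.coeff_sum] at h5
  simp only [MvPolynomial.coeff_monomial] at h5
  rw [Finset.sum_ite_eq'] at h5
  by_cases hα : α ∈ a.support
  · rwa [if_pos hα] at h5
  · rw [Finsupp.notMem_support_iff.mp hα]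
    exact zero_mem _

end Groth.Agent.Helper7.FibTrdeg
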