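import Mathlib

/-!
# A divisibility consequence of going down

Let `R₀ ⊆ S` be domains inside a field `L`, `g₀ ∈ S` transcendental over `R₀`, and `σ, h ∈ S`
integral over `R₀[g₀]` with `σ a₀ = g₀ h` for a nonzero `a₀ ∈ R₀`. Then `σ` lies in every prime
of `S` containing `g₀`. The proof uses going down for the integral closure of the normal domain
`C[g₀]` in `L`, where `C` is the integral closure of `R₀` in `L`.
-/

set_option linter.style.haveILetI false
set_option linter.unusedVariables false
set_option linter.unusedSectionVars false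
set_option autoImplicit false
set_option backward.isDefEq.respectTransparency.types false
set_option synthInstance.maxHeartbeats 400000
set_option maxHeartbeats 1600000

universe u

namespace Groth.Agent.Helper7.FibTrdeg

open Polynomial

attribute [local instance] Polynomial.algebra

section GD

variable {R₀ S L : Type u} [CommRing R₀] [CommRing S] [Field L]
    [Algebra R₀ S] [Algebra S L] [Algebra R₀ L] [IsScalarTower R₀ S L]

local notation "CC" => integralClosure R₀ L
local notation "TT" => integralClosure (Polynomial (integralClosure R₀ L)) L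
local notation "TT₂" => integralClosure S L

theorem mem_of_mul_eq (hSL : Function.Injective (algebraMap S L))
    (g₀ : S) (htr : Transcendental R₀ g₀) (𝔮 : Ideal S) [h𝔮 : 𝔮.IsPrime] (hg𝔮 : g₀ ∈ 𝔮)
    (σ h : S) (a₀ : R₀) (ha₀ : algebraMap R₀ S a₀ ≠ 0)
    (hσ : ((aeval g₀ : R₀[X] →ₐ[R₀] S) : R₀[X] →+* S).IsIntegralElem σ)
    (hh : ((aeval g₀ : R₀[X] →ₐ[R₀] S) : R₀[X] →+* S).IsIntegralElem h)
    (heq : σ * algebraMap R₀ S a₀ = g₀ * h) : σ ∈ 𝔮 := by
  classical
  have htrL : Transcendental R₀ (algebraMap S L g₀) :=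
    (transcendental_algebraMap_iff hSL).mpr htr
  have htrC : Transcendental CC (algebraMap S L g₀) := htrL.integralClosure
  haveI : IsIntegrallyClosed CC :=
    IsIntegrallyClosed.of_isIntegrallyClosed_of_isIntegrallyClosedIn CC L
  letI instPS : Algebra R₀[X] S := ((aeval g₀ : R₀[X] →ₐ[R₀] S) : R₀[X] →+* S).toAlgebra
  letI instPL : Algebra R₀[X] L := ((algebraMap S L).comp (algebraMap R₀[X] S)).toAlgebra
  haveI : IsScalarTower R₀[X] S L := IsScalarTower.of_algebraMap_eq' rfl
  letI instCL : Algebra CC[X] L :=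
    ((aeval (algebraMap S L g₀) : CC[X] →ₐ[CC] L) : CC[X] →+* L).toAlgebra
  have hPL : ∀ p : R₀[X], algebraMap R₀[X] L p = algebraMap S L (aeval g₀ p) := fun p => rfl
  have hCL : ∀ p : CC[X], algebraMap CC[X] L p = aeval (algebraMap S L g₀) p := fun p => rfl
  haveI : IsScalarTower R₀[X] CC[X] L := by
    refine IsScalarTower.of_algebraMap_eq' ?_
    refine Polynomial.ringHom_ext ?_ ?_
    · intro c
      rw [RingHom.comp_apply, hPL, hCL, Polynomial.algebraMap_def, Polynomial.coe_mapRingHom,
        Polynomial.map_C, aeval_C, aeval_C, ← IsScalarTower.algebraMap_apply,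
        ← IsScalarTower.algebraMap_apply]
    · rw [RingHom.comp_apply, hPL, hCL, Polynomial.algebraMap_def, Polynomial.coe_mapRingHom,
        Polynomial.map_X, aeval_X, aeval_X]
  haveI : Algebra.IsIntegral R₀[X] CC[X] := by
    refine ⟨fun f => ?_⟩
    rw [Polynomial.isIntegral_iff_isIntegral_coeff]
    intro n
    exact integralClosure.isIntegral _
  have hinjL : Function.Injective (algebraMap CC[X] L) := by
    show Function.Injective ⇑(aeval (algebraMap S L g₀) : CC[X] →ₐ[CC] L)
    exact transcendental_iff_injective.mp htrC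
  haveI : FaithfulSMul CC[X] TT := by
    rw [faithfulSMul_iff_algebraMap_injective]
    intro p q hpq
    apply hinjL
    have := congrArg (algebraMap TT L) hpq
    rwa [← IsScalarTower.algebraMap_apply, ← IsScalarTower.algebraMap_apply] at this
  haveI hGD : Algebra.HasGoingDown CC[X] TT := inferInstance
  -- lying over for the integral closure of `S` in `L`
  have hker : RingHom.ker (algebraMap S TT₂) ≤ 𝔮 := by
    intro x hx
    rw [RingHom.mem_ker] at hx
    have h1 : algebraMap S L x = 0 := by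
      rw [IsScalarTower.algebraMap_apply S TT₂ L, hx, map_zero]
    have hx0 : x = 0 := hSL (by rw [h1, map_zero])
    rw [hx0]
    exact 𝔮.zero_mem
  obtain ⟨Q₂, hQ₂p, hQ₂⟩ := Ideal.exists_ideal_over_prime_of_isIntegral_of_isDomain 𝔮 hker
  haveI := hQ₂p
  have hmemTT₂ : ∀ z : TT, algebraMap TT L z ∈ TT₂ := by
    intro z
    have h1 : IsIntegral CC[X] (z : L) := z.2
    have h2 : IsIntegral R₀[X] (z : L) := isIntegral_trans (z : L) h1
    show IsIntegral S (z : L)
    exact h2.tower_top
  have hex : ∃ ι : (↥TT) →+* (↥TT₂), ∀ z : TT, ((ι z : TT₂) : L) = (z : L) :=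
    ⟨RingHom.codRestrict (algebraMap TT L) TT₂ hmemTT₂, fun z => rfl⟩
  obtain ⟨ι, hι⟩ := hex
  obtain ⟨Qb, hQb⟩ : ∃ Qb : Ideal TT, Qb = Ideal.comap ι Q₂ := ⟨_, rfl⟩
  haveI hQbp : Qb.IsPrime := by
    rw [hQb]
    exact Ideal.comap_isPrime ι Q₂
  -- integrality of `σ`, `h`
  have hσS : IsIntegral R₀[X] σ := hσ
  have hhS : IsIntegral R₀[X] h := hh
  have hσL0 : IsIntegral R₀[X] (algebraMap S L σ) := hσS.algebraMap
  have hhL0 : IsIntegral R₀[X] (algebraMap S L h) := hhS.algebraMap
  have hσL : IsIntegral CC[X] (algebraMap S L σ) := hσL0.tower_top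
  have hhL : IsIntegral CC[X] (algebraMap S L h) := hhL0.tower_top
  -- `X` lies in the prime
  have hX : algebraMap CC[X] TT X ∈ Qb := by
    rw [hQb, Ideal.mem_comap]
    have h1 : ι (algebraMap CC[X] TT X) = algebraMap S TT₂ g₀ := by
      apply Subtype.ext
      rw [hι]
      show algebraMap CC[X] L X = algebraMap S L g₀
      rw [hCL, aeval_X]
    rw [h1]
    have h2 : g₀ ∈ Q₂.comap (algebraMap S TT₂) := by
      rw [hQ₂]
      exact hg𝔮
    exact h2
  haveI hXprime : (Ideal.span {(X : CC[X])}).IsPrime :=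
    (Ideal.span_singleton_prime X_ne_zero).mpr prime_X
  have hle : Ideal.span {(X : CC[X])} ≤ Qb.under CC[X] := by
    rw [Ideal.span_singleton_le_iff_mem]
    exact hX
  obtain ⟨P', hP'le, hP'p, hP'over⟩ := Ideal.exists_ideal_le_liesOver_of_le
    (R := CC[X]) (S := TT) (p := Ideal.span {(X : CC[X])}) (q := Qb.under CC[X]) Qb hle
  have hXP' : algebraMap CC[X] TT X ∈ P' := by
    have h1 : (X : CC[X]) ∈ Ideal.span {(X : CC[X])} := Ideal.mem_span_singleton_self _
    rw [hP'over.over] at h1
    exact h1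
  have hprod : (⟨algebraMap S L σ, hσL⟩ : TT) *
      algebraMap CC[X] TT (C (algebraMap R₀ CC a₀)) ∈ P' := by
    have h1 : (⟨algebraMap S L σ, hσL⟩ : TT) * algebraMap CC[X] TT (C (algebraMap R₀ CC a₀)) =
        algebraMap CC[X] TT X * (⟨algebraMap S L h, hhL⟩ : TT) := by
      apply Subtype.ext
      show algebraMap S L σ * algebraMap CC[X] L (C (algebraMap R₀ CC a₀)) =
        algebraMap CC[X] L X * algebraMap S L h
      rw [hCL, hCL, aeval_C, aeval_X, ← IsScalarTower.algebraMap_apply R₀ CC L,
        IsScalarTower.algebraMap_apply R₀ S L, ← map_mul, ← map_mul, heq]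
    rw [h1]
    exact Ideal.mul_mem_right _ _ hXP'
  rcases hP'p.mem_or_mem hprod with h1 | h1
  · have h2 : (⟨algebraMap S L σ, hσL⟩ : TT) ∈ Qb := hP'le h1
    rw [hQb, Ideal.mem_comap] at h2
    have h3 : ι ⟨algebraMap S L σ, hσL⟩ = algebraMap S TT₂ σ := by
      apply Subtype.ext
      rw [hι]
      rfl
    rw [h3] at h2
    have h4 : σ ∈ Q₂.comap (algebraMap S TT₂) := h2
    rw [hQ₂] at h4
    exact h4
  · exfalso
    have h2 : C (algebraMap R₀ CC a₀) ∈ P'.under CC[X] := h1
    rw [← hP'over.over, Ideal.mem_span_singleton, X_dvd_iff, coeff_C_zero] at h2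
    apply ha₀
    apply hSL
    rw [map_zero, ← IsScalarTower.algebraMap_apply R₀ S L,
      IsScalarTower.algebraMap_apply R₀ CC L, h2, map_zero]

end GD

end Groth.Agent.Helper7.FibTrdeg
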