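import Mathlib

/-!
# An algebraicity criterion from Zariski's main theorem

Let `S` be a finite type domain over the local ring `A` and `𝔔` a minimal prime over `𝔪_A S`. If a
subalgebra `A[T]` of `S` has the property that every `b ∉ 𝔔` divides modulo `𝔔` an element of
`A[T]` outside `𝔔`, then `S` is algebraic over `A[T]`.
-/

set_option linter.style.haveILetI false
set_option linter.unusedVariables false
set_option linter.unusedSectionVars false
set_option autoImplicit false
set_option backward.isDefEq.respectTransparency.types false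
set_option synthInstance.maxHeartbeats 400000
set_option maxHeartbeats 1600000

universe u

namespace Groth.Agent.Helper7.FibTrdeg

open IsLocalRing

theorem isAlgebraic_of_minimal {A S : Type u} [CommRing A] [CommRing S] [Algebra A S]
    [IsLocalRing A] [IsDomain S] [Algebra.FiniteType A S]
    (hnoeth : IsNoetherianRing (S ⧸ (maximalIdeal A).map (algebraMap A S)))
    (𝔔 : Ideal S) (h𝔔 : 𝔔 ∈ ((maximalIdeal A).map (algebraMap A S)).minimalPrimes)
    (T : Set S)
    (halg : ∀ b ∉ 𝔔, ∃ ρ ∈ Algebra.adjoin A T, ρ ∉ 𝔔 ∧ ρ ∈ 𝔔 ⊔ Ideal.span {b}) :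
    Algebra.IsAlgebraic (Algebra.adjoin A T) S := by
  classical
  haveI h𝔔p : 𝔔.IsPrime := h𝔔.1.1
  have hI𝔔 : (maximalIdeal A).map (algebraMap A S) ≤ 𝔔 := h𝔔.1.2
  have hfin : ((maximalIdeal A).map (algebraMap A S)).minimalPrimes.Finite := by
    rw [Ideal.minimalPrimes_eq_comap]
    exact (minimalPrimes.finite_of_isNoetherianRing _).image _
  have hch : ∀ P : {P // P ∈ hfin.toFinset.erase 𝔔}, ∃ g : S, g ∈ P.1 ∧ g ∉ 𝔔 := by
    rintro ⟨P, hP⟩
    rw [Finset.mem_erase, Set.Finite.mem_toFinset] at hP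
    by_contra hcon
    push Not at hcon
    have hle : P ≤ 𝔔 := fun g hg => hcon g hg
    exact hP.1 (le_antisymm hle (h𝔔.2 hP.2.1 hle))
  choose g hg using hch
  obtain ⟨f, hf𝔔, hfP⟩ : ∃ f : S, f ∉ 𝔔 ∧
      ∀ P ∈ ((maximalIdeal A).map (algebraMap A S)).minimalPrimes, P ≠ 𝔔 → f ∈ P := by
    refine ⟨∏ P ∈ (hfin.toFinset.erase 𝔔).attach, g P, ?_, ?_⟩
    · rw [Ideal.IsPrime.prod_mem_iff]
      rintro ⟨P, _, hP⟩
      exact (hg P).2 hP
    · intro P hP hne
      have hmem : P ∈ hfin.toFinset.erase 𝔔 :=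
        Finset.mem_erase.mpr ⟨hne, hfin.mem_toFinset.mpr hP⟩
      exact Ideal.mem_of_dvd _
        (Finset.dvd_prod_of_mem g (Finset.mem_attach _ (⟨P, hmem⟩ : {P // P ∈ hfin.toFinset.erase 𝔔})))
        (hg ⟨P, hmem⟩).1
  haveI : Algebra.FiniteType (Algebra.adjoin A T) S :=
    Algebra.FiniteType.of_restrictScalars_finiteType A (Algebra.adjoin A T) S
  have H : IsOpen (X := PrimeSpectrum.comap (algebraMap (Algebra.adjoin A T) S) ⁻¹'
      {(⟨𝔔, h𝔔p⟩ : PrimeSpectrum S).comap (algebraMap (Algebra.adjoin A T) S)})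
      {⟨(⟨𝔔, h𝔔p⟩ : PrimeSpectrum S), rfl⟩} := by
    rw [isOpen_induced_iff]
    refine ⟨(PrimeSpectrum.basicOpen f : Set (PrimeSpectrum S)),
      (PrimeSpectrum.basicOpen f).isOpen, ?_⟩
    ext ⟨x, hx⟩
    simp only [Set.mem_preimage, Set.mem_singleton_iff, Subtype.mk.injEq]
    constructor
    · intro hxf
      have hxf' : f ∉ x.asIdeal := hxf
      have hx' : x.asIdeal.comap (algebraMap (Algebra.adjoin A T) S) =
          𝔔.comap (algebraMap (Algebra.adjoin A T) S) :=
        congrArg PrimeSpectrum.asIdeal hx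
      have hIx : (maximalIdeal A).map (algebraMap A S) ≤ x.asIdeal := by
        rw [Ideal.map_le_iff_le_comap]
        intro a ha
        have h1 : algebraMap A (Algebra.adjoin A T) a ∈
            𝔔.comap (algebraMap (Algebra.adjoin A T) S) := by
          rw [Ideal.mem_comap, ← IsScalarTower.algebraMap_apply]
          exact hI𝔔 (Ideal.mem_map_of_mem _ ha)
        rw [← hx'] at h1
        rw [Ideal.mem_comap, IsScalarTower.algebraMap_apply A (Algebra.adjoin A T) S]
        exact h1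
      obtain ⟨P, hPmin, hPx⟩ := Ideal.exists_minimalPrimes_le hIx
      have hPeq : P = 𝔔 := by
        by_contra hne
        exact hxf' (hPx (hfP P hPmin hne))
      have h𝔔x : 𝔔 ≤ x.asIdeal := hPeq ▸ hPx
      have hx𝔔 : x.asIdeal ≤ 𝔔 := by
        intro b hb
        by_contra hb𝔔
        obtain ⟨ρ, hρR, hρ𝔔, hρmem⟩ := halg b hb𝔔
        have hρx : ρ ∈ x.asIdeal :=
          (sup_le h𝔔x ((Ideal.span_singleton_le_iff_mem _).mpr hb)) hρmem
        have h2 : (⟨ρ, hρR⟩ : Algebra.adjoin A T) ∈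
            x.asIdeal.comap (algebraMap (Algebra.adjoin A T) S) := by
          rw [Ideal.mem_comap]
          exact hρx
        rw [hx'] at h2
        exact hρ𝔔 h2
      exact PrimeSpectrum.ext (le_antisymm hx𝔔 h𝔔x)
    · intro hxq
      rw [hxq]
      exact hf𝔔
  haveI : Algebra.QuasiFiniteAt (Algebra.adjoin A T) 𝔔 :=
    Algebra.QuasiFiniteAt.of_isOpen_singleton_fiber (⟨𝔔, h𝔔p⟩ : PrimeSpectrum S) H
  obtain ⟨r, hr𝔔, hrint, hrx⟩ := Algebra.zariskisMainProperty_iff.mp
    (Algebra.ZariskisMainProperty.of_finiteType (R := Algebra.adjoin A T) 𝔔)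
  refine ⟨fun x => ?_⟩
  obtain ⟨m, hm⟩ := hrx x
  have hr0 : r ≠ 0 := fun h0 => hr𝔔 (h0 ▸ 𝔔.zero_mem)
  exact IsAlgebraic.of_mul (mem_nonZeroDivisors_of_ne_zero (pow_ne_zero m hr0))
    (hrint.pow m).isAlgebraic hm.isAlgebraic

end Groth.Agent.Helper7.FibTrdeg
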