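import Mathlib
import Groth.Agent.Lib.Helper4.DimFT1
import Groth.Agent.Lib.Helper4.DimFT2
import Groth.Agent.Lib.Helper7.FibTrdeg.Flat
import Groth.Agent.Lib.Helper7.FibTrdeg.ZMT

/-!
# Dimension of the closed fibre plus residue transcendence degree equals the transcendence degree

For a flat injective local homomorphism `A → B` of local domains with `B` essentially of finite
type over `A`: `dim (B / 𝔪_A B) + trdeg_{κ(A)} κ(B) = trdeg_A B`.
-/

set_option linter.style.haveILetI false
set_option linter.unusedVariables false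
set_option linter.unusedSectionVars false
set_option autoImplicit false
set_option backward.isDefEq.respectTransparency.types false
set_option synthInstance.maxHeartbeats 400000
set_option maxHeartbeats 1600000

universe u

namespace Groth.Agent.Helper7.FibTrdeg

open IsLocalRing Groth.Agent.Lib.Helper4

/-- The transcendence degree of `B` over `A` equals that of `S / 𝔔` over the residue field, for a
minimal prime `𝔔` of the closed fibre of `S` contained in the prime `𝔓` with `B = S_𝔓`. -/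
theorem trdeg_eq_of_minimal {A S B D : Type u} [CommRing A] [IsLocalRing A] [IsDomain A]
    [CommRing S] [IsDomain S] [Algebra A S] [Algebra.FiniteType A S] [FaithfulSMul A S]
    [CommRing B] [IsDomain B] [Algebra A B] [Algebra S B] [IsScalarTower A S B] [Module.Flat A B]
    [FaithfulSMul S B]
    [CommRing D] [IsDomain D] [Algebra A D] [Algebra (ResidueField A) D]
    [IsScalarTower A (ResidueField A) D]
    (π : S →ₐ[A] D) (hπ : Function.Surjective π)
    (hnoeth : IsNoetherianRing (S ⧸ (maximalIdeal A).map (algebraMap A S)))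
    (𝔔 : Ideal S) (h𝔔 : ∀ x, x ∈ 𝔔 ↔ π x = 0)
    (hmin : 𝔔 ∈ ((maximalIdeal A).map (algebraMap A S)).minimalPrimes)
    (𝔓 : Ideal S) [𝔓.IsPrime] [IsLocalization.AtPrime B 𝔓] (hle : 𝔔 ≤ 𝔓) :
    Algebra.trdeg A B = Algebra.trdeg (ResidueField A) D := by
  classical
  haveI h𝔔p : 𝔔.IsPrime := hmin.1.1
  have hJ𝔔 : (maximalIdeal A).map (algebraMap A S) ≤ 𝔔 := hmin.1.2
  obtain ⟨s, hs⟩ := exists_isTranscendenceBasis (ResidueField A) D
  have hch : ∀ i : s, ∃ x : S, π x = (i : D) := fun i => hπ i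
  choose t₀ ht₀ using hch
  have key : ∀ Q : MvPolynomial s A, π (MvPolynomial.aeval t₀ Q) =
      MvPolynomial.aeval ((↑) : s → D) (MvPolynomial.map (algebraMap A (ResidueField A)) Q) := by
    intro Q
    rw [MvPolynomial.aeval_map_algebraMap, MvPolynomial.comp_aeval_apply]
    have hfun : (fun i => π (t₀ i)) = ((↑) : s → D) := funext ht₀
    rw [hfun]
  have hind : AlgebraicIndependent A (algebraMap S B ∘ t₀) := by
    apply algebraicIndependent_of_flat (algebraMap S B ∘ t₀) (𝔔.map (algebraMap S B))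
    · calc (maximalIdeal A).map (algebraMap A B)
          = ((maximalIdeal A).map (algebraMap A S)).map (algebraMap S B) := by
            rw [Ideal.map_map, ← IsScalarTower.algebraMap_eq]
        _ ≤ 𝔔.map (algebraMap S B) := Ideal.map_mono hJ𝔔
    · intro P hP α
      rw [MvPolynomial.aeval_algebraMap_apply] at hP
      have hdisj : Disjoint (𝔓.primeCompl : Set S) (𝔔 : Set S) := by
        rw [Set.disjoint_left]
        intro x hx hx𝔔
        exact hx (hle hx𝔔)
      have h1 : MvPolynomial.aeval t₀ P ∈ 𝔔 := by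
        have hcm := IsLocalization.under_map_of_isPrime_disjoint 𝔓.primeCompl B h𝔔p hdisj
        rw [← hcm]
        exact hP
      have h2 : π (MvPolynomial.aeval t₀ P) = 0 := (h𝔔 _).mp h1
      rw [key] at h2
      have h3 : MvPolynomial.map (algebraMap A (ResidueField A)) P = 0 :=
        hs.1.eq_zero_of_aeval_eq_zero _ h2
      have h4 := congrArg (MvPolynomial.coeff α) h3
      rw [MvPolynomial.coeff_map, MvPolynomial.coeff_zero, IsLocalRing.ResidueField.algebraMap_eq,
        IsLocalRing.residue_eq_zero_iff] at h4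
      exact h4
  have hlow : Cardinal.mk s ≤ Algebra.trdeg A B := hind.cardinalMk_le_trdeg
  have hcard : Cardinal.mk s = Algebra.trdeg (ResidueField A) D := hs.cardinalMk_eq_trdeg
  have halg : ∀ b ∉ 𝔔, ∃ ρ ∈ Algebra.adjoin A (Set.range t₀), ρ ∉ 𝔔 ∧
      ρ ∈ 𝔔 ⊔ Ideal.span {b} := by
    intro b hb
    have hb0 : π b ≠ 0 := fun h => hb ((h𝔔 b).mpr h)
    haveI := hs.isAlgebraic
    have hne := Ideal.comap_ne_bot_of_algebraic_mem
      (R := Algebra.adjoin (ResidueField A) (Set.range ((↑) : s → D)))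
      (I := Ideal.span {π b}) hb0 (Ideal.mem_span_singleton_self _)
      (Algebra.IsAlgebraic.isAlgebraic _)
    obtain ⟨ρ', hρ'mem, hρ'0⟩ := Submodule.exists_mem_ne_zero_of_ne_bot hne
    have hmemr : (ρ' : D) ∈ (MvPolynomial.aeval (R := ResidueField A) ((↑) : s → D)).range := by
      rw [← Algebra.adjoin_range_eq_range_aeval]
      exact ρ'.2
    obtain ⟨Q', hQ'⟩ := (AlgHom.mem_range _).mp hmemr
    obtain ⟨Q, rfl⟩ := MvPolynomial.map_surjective (algebraMap A (ResidueField A))
      (by rw [IsLocalRing.ResidueField.algebraMap_eq]; exact IsLocalRing.residue_surjective) Q'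
    have hρ : π (MvPolynomial.aeval t₀ Q) = (ρ' : D) := by rw [key]; exact hQ'
    have hρ'D : (ρ' : D) ≠ 0 := fun h => hρ'0 (ZeroMemClass.coe_eq_zero.mp h)
    have hmem' : (ρ' : D) ∈ Ideal.span {π b} := hρ'mem
    obtain ⟨c, hc⟩ := Ideal.mem_span_singleton'.mp hmem'
    obtain ⟨c', rfl⟩ := hπ c
    refine ⟨MvPolynomial.aeval t₀ Q, ?_, ?_, ?_⟩
    · rw [Algebra.adjoin_range_eq_range_aeval]
      exact (AlgHom.mem_range _).mpr ⟨Q, rfl⟩
    · intro hmem
      exact hρ'D (by rw [← hρ]; exact (h𝔔 _).mp hmem)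
    · have h1 : MvPolynomial.aeval t₀ Q - c' * b ∈ 𝔔 := by
        rw [h𝔔, map_sub, map_mul, hρ, hc, sub_self]
      have h2 : MvPolynomial.aeval t₀ Q = (MvPolynomial.aeval t₀ Q - c' * b) + c' * b := by ring
      rw [h2]
      exact Ideal.add_mem _ (Ideal.mem_sup_left h1)
        (Ideal.mem_sup_right (Ideal.mul_mem_left _ _ (Ideal.mem_span_singleton_self b)))
  haveI halgS : Algebra.IsAlgebraic (Algebra.adjoin A (Set.range t₀)) S :=
    isAlgebraic_of_minimal hnoeth 𝔔 hmin (Set.range t₀) halg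
  have hup : Algebra.trdeg A S ≤ Cardinal.mk s :=
    (Algebra.IsAlgebraic.trdeg_le_cardinalMk A (Set.range t₀)).trans Cardinal.mk_range_le
  haveI : Algebra.IsAlgebraic S B := IsLocalization.isAlgebraic B 𝔓.primeCompl
  have hadd := trdeg_add_eq A S (A := B)
  rw [trdeg_eq_zero (R := S) (A := B), add_zero] at hadd
  rw [← hcard]
  refine le_antisymm ?_ hlow
  rw [← hadd]
  exact hup

/-- The residue field of `B = S_𝔓` is algebraic over `S / 𝔓`. -/
theorem trdeg_residueField_eq {A S B D : Type u} [CommRing A] [IsLocalRing A]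
    [CommRing S] [Algebra A S]
    [CommRing B] [IsLocalRing B] [Algebra A B] [IsLocalHom (algebraMap A B)] [Algebra S B]
    [IsScalarTower A S B]
    [CommRing D] [IsDomain D] [Algebra A D] [Algebra (ResidueField A) D]
    [IsScalarTower A (ResidueField A) D]
    (π : S →ₐ[A] D) (hπ : Function.Surjective π)
    (𝔓 : Ideal S) [𝔓.IsPrime] [IsLocalization.AtPrime B 𝔓] (h𝔓 : ∀ x, x ∈ 𝔓 ↔ π x = 0) :
    Algebra.trdeg (ResidueField A) (ResidueField B) = Algebra.trdeg (ResidueField A) D := by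
  have hmem : ∀ x : S, residue B (algebraMap S B x) = 0 ↔ x ∈ 𝔓 := by
    intro x
    rw [IsLocalRing.residue_eq_zero_iff]
    exact IsLocalization.AtPrime.to_map_mem_maximal_iff B 𝔓 x
  have hker : RingHom.ker (π : S →+* D) ≤ RingHom.ker ((residue B).comp (algebraMap S B)) := by
    intro x hx
    rw [RingHom.mem_ker] at hx ⊢
    rw [RingHom.comp_apply, hmem, h𝔓]
    exact hx
  let ψ : D →+* ResidueField B := (π : S →+* D).liftOfSurjective hπ
    ⟨(residue B).comp (algebraMap S B), hker⟩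
  have hψ : ∀ x : S, ψ (π x) = residue B (algebraMap S B x) := fun x =>
    RingHom.liftOfSurjective_comp_apply (π : S →+* D) hπ ⟨_, hker⟩ x
  letI : Algebra D (ResidueField B) := ψ.toAlgebra
  have hψalg : ∀ y : D, algebraMap D (ResidueField B) y = ψ y := fun y => rfl
  haveI : IsScalarTower (ResidueField A) D (ResidueField B) := by
    refine IsScalarTower.of_algebraMap_eq fun x => ?_
    obtain ⟨a, rfl⟩ := IsLocalRing.residue_surjective x
    rw [IsLocalRing.ResidueField.algebraMap_residue, hψalg]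
    have h1 : algebraMap (ResidueField A) D (residue A a) = π (algebraMap A S a) := by
      rw [← IsLocalRing.ResidueField.algebraMap_eq, ← IsScalarTower.algebraMap_apply, π.commutes]
    rw [h1, hψ, ← IsScalarTower.algebraMap_apply]
  have hinj : Function.Injective ψ := by
    rw [injective_iff_map_eq_zero]
    intro y hy
    obtain ⟨x, rfl⟩ := hπ y
    rw [hψ, hmem] at hy
    exact (h𝔓 x).mp hy
  haveI : FaithfulSMul D (ResidueField B) := (faithfulSMul_iff_algebraMap_injective _ _).mpr hinj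
  haveI : Algebra.IsAlgebraic D (ResidueField B) := by
    refine ⟨fun z => ?_⟩
    obtain ⟨b, rfl⟩ := IsLocalRing.residue_surjective z
    obtain ⟨⟨x, t⟩, hxt⟩ := IsLocalization.surj 𝔓.primeCompl b
    have ht0 : ψ (π t) ≠ 0 := by
      rw [hψ]
      intro h0
      exact t.2 ((hmem _).mp h0)
    have hmul : ψ (π t) * residue B b = ψ (π x) := by
      rw [hψ, hψ, ← map_mul, mul_comm]
      exact congrArg (residue B) hxt
    refine IsAlgebraic.of_mul (y := ψ (π t)) (mem_nonZeroDivisors_of_ne_zero ht0) ?_ ?_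
    · exact isAlgebraic_algebraMap (π t)
    · rw [hmul]
      exact isAlgebraic_algebraMap (π x)
  have hadd := trdeg_add_eq (ResidueField A) D (A := ResidueField B)
  rw [trdeg_eq_zero (R := D) (A := ResidueField B), add_zero] at hadd
  exact hadd.symm

/-- The dimension of the closed fibre of `B = S_𝔓` is the height of `𝔓` in the closed fibre of
`S`. -/
theorem dim_fibre_eq_height {A S B : Type u} [CommRing A] [CommRing S] [CommRing B] [IsLocalRing A]
    [Algebra A S] [Algebra S B] [Algebra A B] [IsScalarTower A S B]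
    (𝔓 : Ideal S) [𝔓.IsPrime] [IsLocalization.AtPrime B 𝔓]
    (hJ : (maximalIdeal A).map (algebraMap A S) ≤ 𝔓) :
    ringKrullDim (B ⧸ (maximalIdeal A).map (algebraMap A B)) =
      ((𝔓.map (Ideal.Quotient.mk ((maximalIdeal A).map (algebraMap A S)))).height :
        WithBot ℕ∞) := by
  have hmap : ((maximalIdeal A).map (algebraMap A S)).map (algebraMap S B) =
      (maximalIdeal A).map (algebraMap A B) := by
    rw [Ideal.map_map, ← IsScalarTower.algebraMap_eq]
  rw [← ringKrullDim_eq_of_ringEquiv (Ideal.quotEquivOfEq hmap)]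
  haveI hP'prime : (𝔓.map (Ideal.Quotient.mk ((maximalIdeal A).map (algebraMap A S)))).IsPrime :=
    Ideal.map_isPrime_of_surjective Ideal.Quotient.mk_surjective (by rw [Ideal.mk_ker]; exact hJ)
  have hsub : Algebra.algebraMapSubmonoid (S ⧸ (maximalIdeal A).map (algebraMap A S))
      𝔓.primeCompl =
      (𝔓.map (Ideal.Quotient.mk ((maximalIdeal A).map (algebraMap A S)))).primeCompl := by
    ext y
    obtain ⟨y, rfl⟩ := Ideal.Quotient.mk_surjective y
    simp only [Algebra.algebraMapSubmonoid, Submonoid.mem_map, Ideal.mem_primeCompl_iff]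
    constructor
    · rintro ⟨z, hz, hzy⟩
      rw [← hzy]
      intro hmem
      exact hz ((Ideal.mem_quotient_iff_mem hJ).mp hmem)
    · intro hy
      exact ⟨y, fun h => hy ((Ideal.mem_quotient_iff_mem hJ).mpr h), rfl⟩
  haveI hloc : IsLocalization.AtPrime
      (B ⧸ ((maximalIdeal A).map (algebraMap A S)).map (algebraMap S B))
      (𝔓.map (Ideal.Quotient.mk ((maximalIdeal A).map (algebraMap A S)))) := by
    have hinst := (inferInstance : IsLocalization
      (Algebra.algebraMapSubmonoid (S ⧸ (maximalIdeal A).map (algebraMap A S)) 𝔓.primeCompl)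
      (B ⧸ ((maximalIdeal A).map (algebraMap A S)).map (algebraMap S B)))
    rw [hsub] at hinst
    exact hinst
  exact IsLocalization.AtPrime.ringKrullDim_eq_height
    (𝔓.map (Ideal.Quotient.mk ((maximalIdeal A).map (algebraMap A S)))) _

section Core

variable {A S B : Type u} [CommRing A] [IsLocalRing A] [IsDomain A]
    [CommRing S] [IsDomain S] [Algebra A S] [Algebra.FiniteType A S] [FaithfulSMul A S]
    [CommRing B] [IsDomain B] [IsLocalRing B] [Algebra A B] [IsLocalHom (algebraMap A B)]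
    [Algebra S B] [IsScalarTower A S B] [Module.Flat A B] [FaithfulSMul S B]

local notation "JJ" => Ideal.map (algebraMap A S) (maximalIdeal A)

theorem core (𝔓 : Ideal S) [𝔓.IsPrime] [IsLocalization.AtPrime B 𝔓] :
    ∃ d e : ℕ, ringKrullDim (B ⧸ Ideal.map (algebraMap A B) (maximalIdeal A)) = d ∧
      Algebra.trdeg (ResidueField A) (ResidueField B) = e ∧
      Algebra.trdeg A B = (d + e : ℕ) := by
  classical
  have hJ : JJ ≤ 𝔓 := by
    rw [Ideal.map_le_iff_le_comap]
    intro a ha
    rw [Ideal.mem_comap, ← IsLocalization.AtPrime.to_map_mem_maximal_iff B 𝔓,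
      ← IsScalarTower.algebraMap_apply]
    exact map_nonunit (algebraMap A B) a ha
  letI instAlgκF : Algebra (ResidueField A) (S ⧸ JJ) :=
    Ideal.Quotient.algebraQuotientMapQuotient
  haveI instTower : IsScalarTower A (ResidueField A) (S ⧸ JJ) :=
    Ideal.Quotient.tower_quotient_map_quotient
  haveI : Algebra.FiniteType A (S ⧸ JJ) :=
    Algebra.FiniteType.of_surjective (Ideal.Quotient.mkₐ A _) (Ideal.Quotient.mkₐ_surjective A _)
  haveI instFT : Algebra.FiniteType (ResidueField A) (S ⧸ JJ) :=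
    Algebra.FiniteType.of_restrictScalars_finiteType A _ _
  haveI hnoeth : IsNoetherianRing (S ⧸ JJ) :=
    Algebra.FiniteType.isNoetherianRing (ResidueField A) _
  haveI h𝔓' : (𝔓.map (Ideal.Quotient.mk JJ)).IsPrime :=
    Ideal.map_isPrime_of_surjective Ideal.Quotient.mk_surjective (by rw [Ideal.mk_ker]; exact hJ)
  obtain ⟨𝔮, h𝔮min, h𝔮le, hht⟩ :=
    DimFT2.exists_minimalPrimes_height_eq (𝔓.map (Ideal.Quotient.mk JJ))
  haveI h𝔮p : 𝔮.IsPrime := h𝔮min.1.1
  have hdim := DimFT2.height_map_add_dim (ResidueField A) (S ⧸ JJ) 𝔮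
    (𝔓.map (Ideal.Quotient.mk JJ)) h𝔮le
  obtain ⟨e, he1, he2⟩ := DimFT1.exists_dim_eq_trdeg (ResidueField A)
    ((S ⧸ JJ) ⧸ 𝔓.map (Ideal.Quotient.mk JJ))
  obtain ⟨r, hr1, hr2⟩ := DimFT1.exists_dim_eq_trdeg (ResidueField A) ((S ⧸ JJ) ⧸ 𝔮)
  rw [hht, he2, hr2] at hdim
  -- arithmetic
  have hfin : (𝔓.map (Ideal.Quotient.mk JJ)).height ≠ ⊤ := by
    intro htop
    rw [htop] at hdim
    have h1 : ((⊤ : ℕ∞) : WithBot ℕ∞) ≤ ((r : ℕ∞) : WithBot ℕ∞) := by
      calc ((⊤ : ℕ∞) : WithBot ℕ∞)
          ≤ ((⊤ : ℕ∞) : WithBot ℕ∞) + ((e : ℕ∞) : WithBot ℕ∞) := by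
            rw [← WithBot.coe_add]
            exact WithBot.coe_le_coe.mpr le_self_add
        _ = _ := hdim
    exact absurd (WithBot.coe_le_coe.mp h1) (not_le.mpr (ENat.natCast_lt_top r))
  obtain ⟨d, hd⟩ := ENat.ne_top_iff_exists.mp hfin
  rw [← hd] at hdim
  have hsum : d + e = r := by exact_mod_cast hdim
  -- the minimal prime
  have hπq : Function.Surjective ((Ideal.Quotient.mkₐ A 𝔮).comp (Ideal.Quotient.mkₐ A JJ)) :=
    (Ideal.Quotient.mkₐ_surjective A 𝔮).comp (Ideal.Quotient.mkₐ_surjective A JJ)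
  have h𝔔 : ∀ x, x ∈ 𝔮.comap (Ideal.Quotient.mk JJ) ↔
      ((Ideal.Quotient.mkₐ A 𝔮).comp (Ideal.Quotient.mkₐ A JJ)) x = 0 := by
    intro x
    rw [Ideal.mem_comap]
    exact Ideal.Quotient.eq_zero_iff_mem.symm
  have hmin : 𝔮.comap (Ideal.Quotient.mk JJ) ∈ (JJ).minimalPrimes := by
    rw [Ideal.minimalPrimes_eq_comap]
    exact ⟨𝔮, h𝔮min, rfl⟩
  have hle : 𝔮.comap (Ideal.Quotient.mk JJ) ≤ 𝔓 := by
    intro x hx
    exact (Ideal.mem_quotient_iff_mem hJ).mp (h𝔮le (Ideal.mem_comap.mp hx))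
  have hL := trdeg_eq_of_minimal (B := B)
    ((Ideal.Quotient.mkₐ A 𝔮).comp (Ideal.Quotient.mkₐ A JJ)) hπq hnoeth
    (𝔮.comap (Ideal.Quotient.mk JJ)) h𝔔 hmin 𝔓 hle
  -- the residue field
  have hπp : Function.Surjective ((Ideal.Quotient.mkₐ A (𝔓.map (Ideal.Quotient.mk JJ))).comp
      (Ideal.Quotient.mkₐ A JJ)) :=
    (Ideal.Quotient.mkₐ_surjective A _).comp (Ideal.Quotient.mkₐ_surjective A JJ)
  have h𝔓0 : ∀ x, x ∈ 𝔓 ↔ ((Ideal.Quotient.mkₐ A (𝔓.map (Ideal.Quotient.mk JJ))).comp
      (Ideal.Quotient.mkₐ A JJ)) x = 0 := by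
    intro x
    rw [← Ideal.mem_quotient_iff_mem hJ]
    exact Ideal.Quotient.eq_zero_iff_mem.symm
  have hE := trdeg_residueField_eq (B := B)
    ((Ideal.Quotient.mkₐ A (𝔓.map (Ideal.Quotient.mk JJ))).comp (Ideal.Quotient.mkₐ A JJ))
    hπp 𝔓 h𝔓0
  have hD := dim_fibre_eq_height (B := B) 𝔓 hJ
  refine ⟨d, e, ?_, ?_, ?_⟩
  · rw [hD, ← hd]
    rfl
  · rw [hE, he1]
  · rw [hL, hr1, ← hsum]

end Core

/-- **S1403**. -/
theorem main {A B : Type u} [CommRing A] [CommRing B] [IsDomain A] [IsDomain B] [IsLocalRing A]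
    [IsLocalRing B] [Algebra A B] [IsLocalHom (algebraMap A B)] [FaithfulSMul A B]
    [Algebra.EssFiniteType A B] [Module.Flat A B] :
    ∃ d e : ℕ, ringKrullDim (B ⧸ Ideal.map (algebraMap A B) (maximalIdeal A)) = d ∧
      Algebra.trdeg (ResidueField A) (ResidueField B) = e ∧
      Algebra.trdeg A B = (d + e : ℕ) := by
  obtain ⟨S₀, M, hft, hloc⟩ := (Algebra.essFiniteType_iff_exists_subalgebra A B).mp
    (inferInstance : Algebra.EssFiniteType A B)
  haveI : FaithfulSMul A S₀ := by
    rw [faithfulSMul_iff_algebraMap_injective]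
    intro x y hxy
    apply FaithfulSMul.algebraMap_injective A B
    have := congrArg (algebraMap S₀ B) hxy
    rwa [← IsScalarTower.algebraMap_apply, ← IsScalarTower.algebraMap_apply] at this
  haveI : FaithfulSMul S₀ B :=
    (faithfulSMul_iff_algebraMap_injective _ _).mpr Subtype.val_injective
  haveI h𝔓 : ((maximalIdeal B).comap (algebraMap S₀ B)).IsPrime := Ideal.comap_isPrime _ _
  haveI : IsLocalization.AtPrime B ((maximalIdeal B).comap (algebraMap S₀ B)) := by
    refine IsLocalization.of_le M _ ?_ ?_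
    · intro m hm
      show m ∉ (maximalIdeal B).comap (algebraMap S₀ B)
      rw [Ideal.mem_comap]
      intro hmem
      exact (IsLocalRing.mem_maximalIdeal _).mp hmem (IsLocalization.map_units B ⟨m, hm⟩)
    · intro r hr
      have hnm : algebraMap S₀ B r ∉ maximalIdeal B := fun h => hr (Ideal.mem_comap.mpr h)
      exact IsLocalRing.notMem_maximalIdeal.mp hnm
  exact core (S := S₀) ((maximalIdeal B).comap (algebraMap S₀ B))

end Groth.Agent.Helper7.FibTrdeg
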