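import Mathlib

/-!
# A generalised form of the criterion from Zariski's main theorem

Let `S` be a finite type algebra over `R₁`, and `𝔔` a minimal prime over an ideal generated by
images of elements of `R₁`. If every `b ∉ 𝔔` divides modulo `𝔔` the image of an element of `R₁`
outside `𝔔`, then `S` is quasi-finite over `R₁` at `𝔔`, hence Zariski's main theorem applies.
-/

set_option linter.style.haveILetI false
set_option linter.unusedVariables false
set_option linter.unusedSectionVars false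
set_option autoImplicit false
set_option backward.isDefEq.respectTransparency.types false
set_option synthInstance.maxHeartbeats 400000
set_option maxHeartbeats 1600000

universe u

namespace Groth.Agent.Helper7.FibTrdeg

theorem zmp_of_minimal {R₁ S : Type u} [CommRing R₁] [CommRing S] [Algebra R₁ S]
    [Algebra.FiniteType R₁ S] (gens : Set S) (hgens : gens ⊆ Set.range (algebraMap R₁ S))
    (hnoeth : IsNoetherianRing (S ⧸ Ideal.span gens))
    (𝔔 : Ideal S) (h𝔔 : 𝔔 ∈ (Ideal.span gens).minimalPrimes)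
    (halg : ∀ b ∉ 𝔔, ∃ ρ : R₁, algebraMap R₁ S ρ ∉ 𝔔 ∧
      algebraMap R₁ S ρ ∈ 𝔔 ⊔ Ideal.span {b}) :
    ∃ r : S, r ∉ 𝔔 ∧ IsIntegral R₁ r ∧ ∀ x : S, ∃ m : ℕ, IsIntegral R₁ (r ^ m * x) := by
  classical
  haveI h𝔔p : 𝔔.IsPrime := h𝔔.1.1
  have hI𝔔 : Ideal.span gens ≤ 𝔔 := h𝔔.1.2
  have hfin : (Ideal.span gens).minimalPrimes.Finite := by
    rw [Ideal.minimalPrimes_eq_comap]
    exact (minimalPrimes.finite_of_isNoetherianRing _).image _
  have hch : ∀ P : {P // P ∈ hfin.toFinset.erase 𝔔}, ∃ g : S, g ∈ P.1 ∧ g ∉ 𝔔 := by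
    rintro ⟨P, hP⟩
    rw [Finset.mem_erase, Set.Finite.mem_toFinset] at hP
    by_contra hcon
    push Not at hcon
    have hle : P ≤ 𝔔 := fun g hg => hcon g hg
    exact hP.1 (le_antisymm hle (h𝔔.2 hP.2.1 hle))
  choose g hg using hch
  obtain ⟨f, hf𝔔, hfP⟩ : ∃ f : S, f ∉ 𝔔 ∧
      ∀ P ∈ (Ideal.span gens).minimalPrimes, P ≠ 𝔔 → f ∈ P := by
    refine ⟨∏ P ∈ (hfin.toFinset.erase 𝔔).attach, g P, ?_, ?_⟩
    · rw [Ideal.IsPrime.prod_mem_iff]
      rintro ⟨P, _, hP⟩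
      exact (hg P).2 hP
    · intro P hP hne
      have hmem : P ∈ hfin.toFinset.erase 𝔔 :=
        Finset.mem_erase.mpr ⟨hne, hfin.mem_toFinset.mpr hP⟩
      exact Ideal.mem_of_dvd _
        (Finset.dvd_prod_of_mem g (Finset.mem_attach _ (⟨P, hmem⟩ : {P // P ∈ hfin.toFinset.erase 𝔔})))
        (hg ⟨P, hmem⟩).1
  have H : IsOpen (X := PrimeSpectrum.comap (algebraMap R₁ S) ⁻¹'
      {(⟨𝔔, h𝔔p⟩ : PrimeSpectrum S).comap (algebraMap R₁ S)})
      {⟨(⟨𝔔, h𝔔p⟩ : PrimeSpectrum S), rfl⟩} := by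
    rw [isOpen_induced_iff]
    refine ⟨(PrimeSpectrum.basicOpen f : Set (PrimeSpectrum S)),
      (PrimeSpectrum.basicOpen f).isOpen, ?_⟩
    ext ⟨x, hx⟩
    simp only [Set.mem_preimage, Set.mem_singleton_iff, Subtype.mk.injEq]
    constructor
    · intro hxf
      have hxf' : f ∉ x.asIdeal := hxf
      have hx' : x.asIdeal.comap (algebraMap R₁ S) = 𝔔.comap (algebraMap R₁ S) :=
        congrArg PrimeSpectrum.asIdeal hx
      have hIx : Ideal.span gens ≤ x.asIdeal := by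
        rw [Ideal.span_le]
        intro s hs
        obtain ⟨ρ, rfl⟩ := hgens hs
        have h1 : ρ ∈ 𝔔.comap (algebraMap R₁ S) := by
          rw [Ideal.mem_comap]
          exact hI𝔔 (Ideal.subset_span hs)
        rw [← hx'] at h1
        exact h1
      obtain ⟨P, hPmin, hPx⟩ := Ideal.exists_minimalPrimes_le hIx
      have hPeq : P = 𝔔 := by
        by_contra hne
        exact hxf' (hPx (hfP P hPmin hne))
      have h𝔔x : 𝔔 ≤ x.asIdeal := hPeq ▸ hPx
      have hx𝔔 : x.asIdeal ≤ 𝔔 := by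
        intro b hb
        by_contra hb𝔔
        obtain ⟨ρ, hρ𝔔, hρmem⟩ := halg b hb𝔔
        have hρx : algebraMap R₁ S ρ ∈ x.asIdeal :=
          (sup_le h𝔔x ((Ideal.span_singleton_le_iff_mem _).mpr hb)) hρmem
        have h2 : ρ ∈ x.asIdeal.comap (algebraMap R₁ S) := by
          rw [Ideal.mem_comap]
          exact hρx
        rw [hx'] at h2
        exact hρ𝔔 h2
      exact PrimeSpectrum.ext (le_antisymm hx𝔔 h𝔔x)
    · intro hxq
      rw [hxq]
      exact hf𝔔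
  haveI : Algebra.QuasiFiniteAt R₁ 𝔔 :=
    Algebra.QuasiFiniteAt.of_isOpen_singleton_fiber (⟨𝔔, h𝔔p⟩ : PrimeSpectrum S) H
  exact Algebra.zariskisMainProperty_iff.mp
    (Algebra.ZariskisMainProperty.of_finiteType (R := R₁) 𝔔)

/-- The version for a subalgebra `A[T]` of a domain: algebraicity. -/
theorem isAlgebraic_adjoin_of_minimal {A S : Type u} [CommRing A] [CommRing S] [IsDomain S]
    [Algebra A S] [Algebra.FiniteType A S] (T : Set S) (gens : Set S)
    (hgens : ∀ s ∈ gens, s ∈ T ∨ s ∈ Set.range (algebraMap A S))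
    (hnoeth : IsNoetherianRing (S ⧸ Ideal.span gens))
    (𝔔 : Ideal S) (h𝔔 : 𝔔 ∈ (Ideal.span gens).minimalPrimes)
    (halg : ∀ b ∉ 𝔔, ∃ ρ ∈ Algebra.adjoin A T, ρ ∉ 𝔔 ∧ ρ ∈ 𝔔 ⊔ Ideal.span {b}) :
    Algebra.IsAlgebraic (Algebra.adjoin A T) S := by
  haveI : Algebra.FiniteType (Algebra.adjoin A T) S :=
    Algebra.FiniteType.of_restrictScalars_finiteType A (Algebra.adjoin A T) S
  have hgens' : gens ⊆ Set.range (algebraMap (Algebra.adjoin A T) S) := by
    intro s hs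
    rcases hgens s hs with hT | ⟨a, rfl⟩
    · exact ⟨⟨s, Algebra.subset_adjoin hT⟩, rfl⟩
    · exact ⟨algebraMap A (Algebra.adjoin A T) a,
        (IsScalarTower.algebraMap_apply A (Algebra.adjoin A T) S a).symm⟩
  have halg' : ∀ b ∉ 𝔔, ∃ ρ : Algebra.adjoin A T, algebraMap (Algebra.adjoin A T) S ρ ∉ 𝔔 ∧
      algebraMap (Algebra.adjoin A T) S ρ ∈ 𝔔 ⊔ Ideal.span {b} := by
    intro b hb
    obtain ⟨ρ, hρmem, h1, h2⟩ := halg b hb
    exact ⟨⟨ρ, hρmem⟩, h1, h2⟩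
  obtain ⟨r, hr𝔔, hrint, hrx⟩ := zmp_of_minimal gens hgens' hnoeth 𝔔 h𝔔 halg'
  refine ⟨fun y => ?_⟩
  obtain ⟨m, hm⟩ := hrx y
  have hr0 : r ≠ 0 := fun h0 => hr𝔔 (h0 ▸ 𝔔.zero_mem)
  exact IsAlgebraic.of_mul (mem_nonZeroDivisors_of_ne_zero (pow_ne_zero m hr0))
    (hrint.pow m).isAlgebraic hm.isAlgebraic

end Groth.Agent.Helper7.FibTrdeg
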