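import Mathlib
import Groth.Agent.Lib.Helper4.DimFT1
import Groth.Agent.Lib.Helper4.DimFT2
import Groth.Agent.Lib.Helper7.FibTrdeg.Main
import Groth.Agent.Lib.Helper7.FibTrdeg.ZMT2
import Groth.Agent.Lib.Helper7.FibTrdeg.GoingDown

/-!
# Injectivity modulo a horizontal element

Let `A → B` be an injective local homomorphism of local domains with `B` essentially of finite type
over `A`, and `g ∈ 𝔪_B` lying in no minimal prime over `𝔪_A B`. If
`dim (B / 𝔪_A B) + trdeg_{κ(A)} κ(B) = trdeg_A B`, then `A → B / g B` is injective.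
-/

set_option linter.style.haveILetI false
set_option linter.unusedVariables false
set_option linter.unusedSectionVars false
set_option autoImplicit false
set_option backward.isDefEq.respectTransparency.types false
set_option synthInstance.maxHeartbeats 400000
set_option maxHeartbeats 1600000

universe u

namespace Groth.Agent.Helper7.FibTrdeg

open IsLocalRing Groth.Agent.Lib.Helper4

theorem enat_arith {h : ℕ∞} {a b : ℕ}
    (H : (h : WithBot ℕ∞) + (a : WithBot ℕ∞) = (b : WithBot ℕ∞)) :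
    ∃ n : ℕ, h = n ∧ n + a = b := by
  have hne : h ≠ ⊤ := by
    rintro rfl
    have h1 : ((⊤ : ℕ∞) : WithBot ℕ∞) ≤ ((b : ℕ∞) : WithBot ℕ∞) := by
      calc ((⊤ : ℕ∞) : WithBot ℕ∞)
          ≤ ((⊤ : ℕ∞) : WithBot ℕ∞) + ((a : ℕ∞) : WithBot ℕ∞) := by
            rw [← WithBot.coe_add]
            exact WithBot.coe_le_coe.mpr le_self_add
        _ = _ := H
    exact absurd (WithBot.coe_le_coe.mp h1) (not_le.mpr (ENat.natCast_lt_top b))
  obtain ⟨n, hn⟩ := ENat.ne_top_iff_exists.mp hne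
  refine ⟨n, hn.symm, ?_⟩
  rw [← hn] at H
  exact_mod_cast H

/-- Lifts of a transcendence basis of `S / 𝔔` over the residue field, with the divisibility
property needed for Zariski's main theorem. -/
theorem exists_halg {A S D : Type u} [CommRing A] [IsLocalRing A] [CommRing S] [Algebra A S]
    [CommRing D] [IsDomain D] [Algebra A D] [Algebra (ResidueField A) D]
    [IsScalarTower A (ResidueField A) D]
    (π : S →ₐ[A] D) (hπ : Function.Surjective π) (𝔔 : Ideal S) (h𝔔 : ∀ x, x ∈ 𝔔 ↔ π x = 0) :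
    ∃ (s : Set D) (t : s → S), Cardinal.mk s = Algebra.trdeg (ResidueField A) D ∧
      ∀ b ∉ 𝔔, ∃ Q : MvPolynomial s A, MvPolynomial.aeval t Q ∉ 𝔔 ∧
        MvPolynomial.aeval t Q ∈ 𝔔 ⊔ Ideal.span {b} := by
  classical
  obtain ⟨s, hs⟩ := exists_isTranscendenceBasis (ResidueField A) D
  have hch : ∀ i : s, ∃ x : S, π x = (i : D) := fun i => hπ i
  choose t₀ ht₀ using hch
  have key : ∀ Q : MvPolynomial s A, π (MvPolynomial.aeval t₀ Q) =
      MvPolynomial.aeval ((↑) : s → D) (MvPolynomial.map (algebraMap A (ResidueField A)) Q) := by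
    intro Q
    rw [MvPolynomial.aeval_map_algebraMap, MvPolynomial.comp_aeval_apply]
    have hfun : (fun i => π (t₀ i)) = ((↑) : s → D) := funext ht₀
    rw [hfun]
  refine ⟨s, t₀, hs.cardinalMk_eq_trdeg, ?_⟩
  intro b hb
  have hb0 : π b ≠ 0 := fun h => hb ((h𝔔 b).mpr h)
  haveI := hs.isAlgebraic
  have hne := Ideal.comap_ne_bot_of_algebraic_mem
    (R := Algebra.adjoin (ResidueField A) (Set.range ((↑) : s → D)))
    (I := Ideal.span {π b}) hb0 (Ideal.mem_span_singleton_self _)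
    (Algebra.IsAlgebraic.isAlgebraic _)
  obtain ⟨ρ', hρ'mem, hρ'0⟩ := Submodule.exists_mem_ne_zero_of_ne_bot hne
  have hmemr : (ρ' : D) ∈ (MvPolynomial.aeval (R := ResidueField A) ((↑) : s → D)).range := by
    rw [← Algebra.adjoin_range_eq_range_aeval]
    exact ρ'.2
  obtain ⟨Q', hQ'⟩ := (AlgHom.mem_range _).mp hmemr
  obtain ⟨Q, rfl⟩ := MvPolynomial.map_surjective (algebraMap A (ResidueField A))
    (by rw [IsLocalRing.ResidueField.algebraMap_eq]; exact IsLocalRing.residue_surjective) Q'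
  have hρ : π (MvPolynomial.aeval t₀ Q) = (ρ' : D) := by rw [key]; exact hQ'
  have hρ'D : (ρ' : D) ≠ 0 := fun h => hρ'0 (ZeroMemClass.coe_eq_zero.mp h)
  have hmem' : (ρ' : D) ∈ Ideal.span {π b} := hρ'mem
  obtain ⟨c, hc⟩ := Ideal.mem_span_singleton'.mp hmem'
  obtain ⟨c', rfl⟩ := hπ c
  refine ⟨Q, ?_, ?_⟩
  · intro hmem
    exact hρ'D (by rw [← hρ]; exact (h𝔔 _).mp hmem)
  · have h1 : MvPolynomial.aeval t₀ Q - c' * b ∈ 𝔔 := by
      rw [h𝔔, map_sub, map_mul, hρ, hc, sub_self]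
    have h2 : MvPolynomial.aeval t₀ Q = (MvPolynomial.aeval t₀ Q - c' * b) + c' * b := by ring
    rw [h2]
    exact Ideal.add_mem _ (Ideal.mem_sup_left h1)
      (Ideal.mem_sup_right (Ideal.mul_mem_left _ _ (Ideal.mem_span_singleton_self b)))

/-- The final step: Zariski's main theorem over `R₀[g₀]` and going down. -/
theorem final_step {A S : Type u} [CommRing A] [CommRing S] [IsDomain S] [Algebra A S]
    [Algebra.FiniteType A S] (R₀ : Subalgebra A S) (g₀ : S) (htr : Transcendental R₀ g₀)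
    (gens : Set S) (hgens : ∀ s ∈ gens, s = g₀ ∨ s ∈ Set.range (algebraMap A S))
    (hnoeth : IsNoetherianRing (S ⧸ Ideal.span gens))
    (𝔔 : Ideal S) (h𝔔 : 𝔔 ∈ (Ideal.span gens).minimalPrimes) (hg𝔔 : g₀ ∈ 𝔔)
    (halg : ∀ b ∉ 𝔔, ∃ ρ ∈ R₀, ρ ∉ 𝔔 ∧ ρ ∈ 𝔔 ⊔ Ideal.span {b})
    (σ h : S) (a : A) (ha : algebraMap A S a ≠ 0) (heq : σ * algebraMap A S a = g₀ * h) :
    σ ∈ 𝔔 := by
  classical
  haveI h𝔔p : 𝔔.IsPrime := h𝔔.1.1
  letI instPS : Algebra (Polynomial R₀) S :=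
    ((Polynomial.aeval g₀ : Polynomial R₀ →ₐ[R₀] S) : Polynomial R₀ →+* S).toAlgebra
  have hPS : ∀ p : Polynomial R₀, algebraMap (Polynomial R₀) S p = Polynomial.aeval g₀ p :=
    fun p => rfl
  haveI : IsScalarTower A (Polynomial R₀) S := by
    refine IsScalarTower.of_algebraMap_eq fun c => ?_
    rw [Polynomial.algebraMap_apply, hPS, Polynomial.aeval_C, ← IsScalarTower.algebraMap_apply]
  haveI : Algebra.FiniteType (Polynomial R₀) S :=
    Algebra.FiniteType.of_restrictScalars_finiteType A (Polynomial R₀) S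
  have hgens' : gens ⊆ Set.range (algebraMap (Polynomial R₀) S) := by
    intro s hs
    rcases hgens s hs with rfl | ⟨c, rfl⟩
    · exact ⟨Polynomial.X, by rw [hPS, Polynomial.aeval_X]⟩
    · exact ⟨Polynomial.C (algebraMap A R₀ c), by
        rw [hPS, Polynomial.aeval_C, ← IsScalarTower.algebraMap_apply]⟩
  have halg' : ∀ b ∉ 𝔔, ∃ ρ : Polynomial R₀, algebraMap (Polynomial R₀) S ρ ∉ 𝔔 ∧
      algebraMap (Polynomial R₀) S ρ ∈ 𝔔 ⊔ Ideal.span {b} := by
    intro b hb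
    obtain ⟨ρ, hρmem, h1, h2⟩ := halg b hb
    refine ⟨Polynomial.C ⟨ρ, hρmem⟩, ?_, ?_⟩
    · rw [hPS, Polynomial.aeval_C]
      exact h1
    · rw [hPS, Polynomial.aeval_C]
      exact h2
  obtain ⟨r, hr𝔔, hrint, hrx⟩ := zmp_of_minimal gens hgens' hnoeth 𝔔 h𝔔 halg'
  obtain ⟨m₁, hm₁⟩ := hrx σ
  obtain ⟨m₂, hm₂⟩ := hrx h
  have hσ' : IsIntegral (Polynomial R₀) (r ^ (m₁ + m₂) * σ) := by
    have h1 : r ^ (m₁ + m₂) * σ = r ^ m₂ * (r ^ m₁ * σ) := by ring
    rw [h1]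
    exact (hrint.pow m₂).mul hm₁
  have hh' : IsIntegral (Polynomial R₀) (r ^ (m₁ + m₂) * h) := by
    have h1 : r ^ (m₁ + m₂) * h = r ^ m₁ * (r ^ m₂ * h) := by ring
    rw [h1]
    exact (hrint.pow m₁).mul hm₂
  have ha₀ : algebraMap R₀ S (algebraMap A R₀ a) ≠ 0 := by
    rw [← IsScalarTower.algebraMap_apply]
    exact ha
  have heq' : r ^ (m₁ + m₂) * σ * algebraMap R₀ S (algebraMap A R₀ a) =
      g₀ * (r ^ (m₁ + m₂) * h) := by
    rw [← IsScalarTower.algebraMap_apply, mul_assoc, heq]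
    ring
  have hmem := mem_of_mul_eq (R₀ := R₀) (S := S) (L := FractionRing S)
    (IsFractionRing.injective S (FractionRing S)) g₀ htr 𝔔 hg𝔔
    (r ^ (m₁ + m₂) * σ) (r ^ (m₁ + m₂) * h) (algebraMap A R₀ a) ha₀ hσ' hh' heq'
  rcases h𝔔p.mem_or_mem hmem with h1 | h1
  · exact absurd (h𝔔p.mem_of_pow_mem _ h1) hr𝔔
  · exact h1

section Core

variable {A S B : Type u} [CommRing A] [IsLocalRing A] [IsDomain A]
    [CommRing S] [IsDomain S] [Algebra A S] [Algebra.FiniteType A S] [FaithfulSMul A S]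
    [CommRing B] [IsDomain B] [IsLocalRing B] [Algebra A B] [IsLocalHom (algebraMap A B)]
    [Algebra S B] [IsScalarTower A S B] [FaithfulSMul S B]

local notation "JJ" => Ideal.map (algebraMap A S) (maximalIdeal A)
local notation "mkJ" => Ideal.Quotient.mk (Ideal.map (algebraMap A S) (maximalIdeal A))

theorem horiz_core (𝔓 : Ideal S) [𝔓.IsPrime] [IsLocalization.AtPrime B 𝔓] (g₀ : S) (hg₀ : g₀ ∈ 𝔓)
    (hmin : ∀ q ∈ (Ideal.map (algebraMap A B) (maximalIdeal A)).minimalPrimes,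
      algebraMap S B g₀ ∉ q)
    (d e : ℕ) (hd : ringKrullDim (B ⧸ Ideal.map (algebraMap A B) (maximalIdeal A)) = d)
    (he : Algebra.trdeg (ResidueField A) (ResidueField B) = e)
    (hsum : Algebra.trdeg A B = (d + e : ℕ)) (a : A)
    (ha : algebraMap A B a ∈ Ideal.span {algebraMap S B g₀}) : a = 0 := by
  classical
  have hJ : JJ ≤ 𝔓 := by
    rw [Ideal.map_le_iff_le_comap]
    intro a ha
    rw [Ideal.mem_comap, ← IsLocalization.AtPrime.to_map_mem_maximal_iff B 𝔓,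
      ← IsScalarTower.algebraMap_apply]
    exact map_nonunit (algebraMap A B) a ha
  letI instAlgκF : Algebra (ResidueField A) (S ⧸ JJ) :=
    Ideal.Quotient.algebraQuotientMapQuotient
  haveI instTower : IsScalarTower A (ResidueField A) (S ⧸ JJ) :=
    Ideal.Quotient.tower_quotient_map_quotient
  haveI : Algebra.FiniteType A (S ⧸ JJ) :=
    Algebra.FiniteType.of_surjective (Ideal.Quotient.mkₐ A _) (Ideal.Quotient.mkₐ_surjective A _)
  haveI instFT : Algebra.FiniteType (ResidueField A) (S ⧸ JJ) :=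
    Algebra.FiniteType.of_restrictScalars_finiteType A _ _
  haveI hnoeth : IsNoetherianRing (S ⧸ JJ) :=
    Algebra.FiniteType.isNoetherianRing (ResidueField A) _
  haveI h𝔓' : (𝔓.map mkJ).IsPrime :=
    Ideal.map_isPrime_of_surjective Ideal.Quotient.mk_surjective (by rw [Ideal.mk_ker]; exact hJ)
  -- the primes
  have hI𝔓 : JJ ⊔ Ideal.span {g₀} ≤ 𝔓 :=
    sup_le hJ ((Ideal.span_singleton_le_iff_mem _).mpr hg₀)
  obtain ⟨𝔔₁, h𝔔₁min, h𝔔₁le⟩ := Ideal.exists_minimalPrimes_le hI𝔓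
  haveI h𝔔₁p : 𝔔₁.IsPrime := h𝔔₁min.1.1
  have hJ𝔔₁ : JJ ≤ 𝔔₁ := le_sup_left.trans h𝔔₁min.1.2
  have hg𝔔₁ : g₀ ∈ 𝔔₁ :=
    h𝔔₁min.1.2 (Ideal.mem_sup_right (Ideal.mem_span_singleton_self g₀))
  obtain ⟨𝔔', h𝔔'min, h𝔔'le⟩ := Ideal.exists_minimalPrimes_le hJ𝔔₁
  haveI h𝔔'p : 𝔔'.IsPrime := h𝔔'min.1.1
  have hJ𝔔' : JJ ≤ 𝔔' := h𝔔'min.1.2
  have hg𝔔' : g₀ ∉ 𝔔' := by
    intro hmem
    have hdisj : Disjoint (𝔓.primeCompl : Set S) (𝔔' : Set S) := by
      rw [Set.disjoint_left]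
      intro x hx hx𝔔
      exact hx (h𝔔₁le (h𝔔'le hx𝔔))
    have hmapJ : Ideal.map (algebraMap S B) JJ = (maximalIdeal A).map (algebraMap A B) := by
      rw [Ideal.map_map, ← IsScalarTower.algebraMap_eq]
    have hq : 𝔔'.map (algebraMap S B) ∈
        ((maximalIdeal A).map (algebraMap A B)).minimalPrimes := by
      rw [← hmapJ, IsLocalization.minimalPrimes_map 𝔓.primeCompl B JJ]
      show Ideal.under S (𝔔'.map (algebraMap S B)) ∈ (JJ).minimalPrimes
      rw [IsLocalization.under_map_of_isPrime_disjoint 𝔓.primeCompl B h𝔔'p hdisj]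
      exact h𝔔'min
    exact hmin _ hq (Ideal.mem_map_of_mem _ hmem)
  have hne : 𝔔' ≠ 𝔔₁ := fun h => hg𝔔' (h ▸ hg𝔔₁)
  haveI h𝔔₁' : (𝔔₁.map mkJ).IsPrime := DimFT2.isPrime_map_mk JJ 𝔔₁ hJ𝔔₁
  haveI h𝔔'' : (𝔔'.map mkJ).IsPrime := DimFT2.isPrime_map_mk JJ 𝔔' hJ𝔔'
  have hle1 : 𝔔'.map mkJ ≤ 𝔔₁.map mkJ := Ideal.map_mono h𝔔'le
  have hle2 : 𝔔₁.map mkJ ≤ 𝔓.map mkJ := Ideal.map_mono h𝔔₁le
  have hne' : 𝔔'.map mkJ ≠ 𝔔₁.map mkJ := by
    intro h
    apply hne
    have h1 := DimFT2.comap_map_mk' JJ 𝔔' hJ𝔔'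
    have h2 := DimFT2.comap_map_mk' JJ 𝔔₁ hJ𝔔₁
    rw [h] at h1
    exact h1.symm.trans h2
  -- dimensions
  obtain ⟨e', he'1, he'2⟩ := DimFT1.exists_dim_eq_trdeg (ResidueField A)
    ((S ⧸ JJ) ⧸ 𝔓.map mkJ)
  obtain ⟨r', hr'1, hr'2⟩ := DimFT1.exists_dim_eq_trdeg (ResidueField A)
    ((S ⧸ JJ) ⧸ 𝔔'.map mkJ)
  obtain ⟨r₁, hr₁1, hr₁2⟩ := DimFT1.exists_dim_eq_trdeg (ResidueField A)
    ((S ⧸ JJ) ⧸ 𝔔₁.map mkJ)
  have hπp : Function.Surjective ((Ideal.Quotient.mkₐ A (𝔓.map mkJ)).comp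
      (Ideal.Quotient.mkₐ A JJ)) :=
    (Ideal.Quotient.mkₐ_surjective A _).comp (Ideal.Quotient.mkₐ_surjective A JJ)
  have h𝔓0 : ∀ x, x ∈ 𝔓 ↔ ((Ideal.Quotient.mkₐ A (𝔓.map mkJ)).comp
      (Ideal.Quotient.mkₐ A JJ)) x = 0 := by
    intro x
    rw [← Ideal.mem_quotient_iff_mem hJ]
    exact Ideal.Quotient.eq_zero_iff_mem.symm
  have hE := trdeg_residueField_eq (B := B)
    ((Ideal.Quotient.mkₐ A (𝔓.map mkJ)).comp (Ideal.Quotient.mkₐ A JJ)) hπp 𝔓 h𝔓0
  have hee : e' = e := by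
    have h1 : ((e' : ℕ) : Cardinal) = (e : Cardinal) := by rw [← he'1, ← hE, he]
    exact_mod_cast h1
  have hD := dim_fibre_eq_height (B := B) 𝔓 hJ
  have hht : (𝔓.map mkJ).height = (d : ℕ∞) := by
    have h1 := hD.symm.trans hd
    exact_mod_cast h1
  have hdim1 := DimFT2.height_map_add_dim (ResidueField A) (S ⧸ JJ) (𝔔'.map mkJ) (𝔓.map mkJ)
    (hle1.trans hle2)
  have hle3 := DimFT2.height_map_mk_le (𝔔'.map mkJ) (𝔓.map mkJ) (hle1.trans hle2)
  rw [he'2, hr'2] at hdim1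
  obtain ⟨n₁, hn₁, hn₁sum⟩ := enat_arith hdim1
  have hr'le : r' ≤ d + e := by
    rw [hht, hn₁] at hle3
    have h2 : n₁ ≤ d := by exact_mod_cast hle3
    omega
  have hdim2 := DimFT2.height_map_add_dim (ResidueField A) (S ⧸ JJ) (𝔔'.map mkJ) (𝔔₁.map mkJ)
    hle1
  rw [hr₁2, hr'2] at hdim2
  obtain ⟨n₂, hn₂, hn₂sum⟩ := enat_arith hdim2
  have hn₂pos : n₂ ≠ 0 := by
    rintro rfl
    haveI := DimFT2.isPrime_map_mk (𝔔'.map mkJ) (𝔔₁.map mkJ) hle1
    have h0 : ((𝔔₁.map mkJ).map (Ideal.Quotient.mk (𝔔'.map mkJ))).height = 0 := by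
      rw [hn₂]
      rfl
    rw [Ideal.height_eq_zero_iff_eq_bot] at h0
    apply hne'
    have h1 := DimFT2.comap_map_mk' (𝔔'.map mkJ) (𝔔₁.map mkJ) hle1
    rw [h0, ← RingHom.ker_eq_comap_bot, Ideal.mk_ker] at h1
    exact h1
  have hr₁lt : r₁ + 1 ≤ d + e := by omega
  -- transcendence degree of `S`
  haveI : Algebra.IsAlgebraic S B := IsLocalization.isAlgebraic B 𝔓.primeCompl
  have hadd := trdeg_add_eq A S (A := B)
  rw [trdeg_eq_zero (R := S) (A := B), add_zero] at hadd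
  have htrS : Algebra.trdeg A S = ((d + e : ℕ) : Cardinal) := hadd.trans hsum
  -- the lifts
  have hπ₁ : Function.Surjective ((Ideal.Quotient.mkₐ A (𝔔₁.map mkJ)).comp
      (Ideal.Quotient.mkₐ A JJ)) :=
    (Ideal.Quotient.mkₐ_surjective A _).comp (Ideal.Quotient.mkₐ_surjective A JJ)
  have h𝔔₁0 : ∀ x, x ∈ 𝔔₁ ↔ ((Ideal.Quotient.mkₐ A (𝔔₁.map mkJ)).comp
      (Ideal.Quotient.mkₐ A JJ)) x = 0 := by
    intro x
    rw [← Ideal.mem_quotient_iff_mem hJ𝔔₁]
    exact Ideal.Quotient.eq_zero_iff_mem.symm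
  obtain ⟨s₁, t, hcard, halg⟩ := exists_halg _ hπ₁ 𝔔₁ h𝔔₁0
  have hcard' : Cardinal.mk s₁ = (r₁ : Cardinal) := hcard.trans hr₁1
  haveI : Finite s₁ := Cardinal.lt_aleph0_iff_finite.mp
    (by rw [hcard']; exact Cardinal.natCast_lt_aleph0)
  obtain ⟨x, hx⟩ : ∃ x : Option s₁ → S, x = fun o => o.elim g₀ t := ⟨_, rfl⟩
  have hx_none : x none = g₀ := congrFun hx none
  have hx_some : ∀ i, x (some i) = t i := fun i => congrFun hx (some i)
  have hspan : Ideal.span ((algebraMap A S '' (maximalIdeal A : Set A)) ∪ {g₀}) =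
      JJ ⊔ Ideal.span {g₀} := by
    rw [Ideal.span_union]
    rfl
  have hnoethI : IsNoetherianRing
      (S ⧸ Ideal.span ((algebraMap A S '' (maximalIdeal A : Set A)) ∪ {g₀})) := by
    have hle : JJ ≤ Ideal.span ((algebraMap A S '' (maximalIdeal A : Set A)) ∪ {g₀}) := by
      rw [hspan]
      exact le_sup_left
    exact isNoetherianRing_of_surjective (S ⧸ JJ) _ (Ideal.Quotient.factor hle)
      (Ideal.Quotient.factor_surjective hle)
  have h𝔔₁min' : 𝔔₁ ∈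
      (Ideal.span ((algebraMap A S '' (maximalIdeal A : Set A)) ∪ {g₀})).minimalPrimes := by
    rw [hspan]
    exact h𝔔₁min
  have hgens : ∀ s ∈ (algebraMap A S '' (maximalIdeal A : Set A)) ∪ {g₀},
      s = g₀ ∨ s ∈ Set.range (algebraMap A S) := by
    rintro s (⟨c, _, rfl⟩ | hs)
    · exact Or.inr ⟨c, rfl⟩
    · exact Or.inl (Set.mem_singleton_iff.mp hs)
  have htx : Algebra.adjoin A (Set.range t) ≤ Algebra.adjoin A (Set.range x) := by
    apply Algebra.adjoin_mono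
    rintro _ ⟨i, rfl⟩
    exact ⟨some i, hx_some i⟩
  have halgR₀ : ∀ b ∉ 𝔔₁, ∃ ρ ∈ Algebra.adjoin A (Set.range t), ρ ∉ 𝔔₁ ∧
      ρ ∈ 𝔔₁ ⊔ Ideal.span {b} := by
    intro b hb
    obtain ⟨Q, h1, h2⟩ := halg b hb
    refine ⟨MvPolynomial.aeval t Q, ?_, h1, h2⟩
    rw [Algebra.adjoin_range_eq_range_aeval]
    exact (AlgHom.mem_range _).mpr ⟨Q, rfl⟩
  haveI halgS : Algebra.IsAlgebraic (Algebra.adjoin A (Set.range x)) S := by
    refine isAlgebraic_adjoin_of_minimal (Set.range x) _ ?_ hnoethI 𝔔₁ h𝔔₁min' ?_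
    · intro s hs
      rcases hgens s hs with h1 | h1
      · exact Or.inl ⟨none, by rw [hx_none, h1]⟩
      · exact Or.inr h1
    · intro b hb
      obtain ⟨ρ, hρ, h1, h2⟩ := halgR₀ b hb
      exact ⟨ρ, htx hρ, h1, h2⟩
  have hle : Cardinal.mk (Option s₁) ≤ Algebra.trdeg A S := by
    rw [Cardinal.mk_option, hcard', htrS]
    exact_mod_cast hr₁lt
  have hxtb := Algebra.IsAlgebraic.isTranscendenceBasis_of_le_trdeg_of_finite A x hle
  have hxind : AlgebraicIndependent A (fun o : Option s₁ => o.elim g₀ t) := hx ▸ hxtb.1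
  obtain ⟨htind, htr⟩ := AlgebraicIndependent.option_iff.mp hxind
  -- the final step
  by_contra ha0
  rw [Ideal.mem_span_singleton'] at ha
  obtain ⟨y, hy⟩ := ha
  obtain ⟨⟨h, σ⟩, hhσ⟩ := IsLocalization.surj 𝔓.primeCompl y
  have hhσ' : y * algebraMap S B (σ : S) = algebraMap S B h := hhσ
  have heqS : (σ : S) * algebraMap A S a = g₀ * h := by
    apply FaithfulSMul.algebraMap_injective S B
    rw [map_mul, map_mul, ← IsScalarTower.algebraMap_apply A S B, ← hy, ← hhσ']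
    ring
  have haS : algebraMap A S a ≠ 0 := by
    intro h0
    apply ha0
    apply FaithfulSMul.algebraMap_injective A S
    rw [h0, map_zero]
  have hσ𝔔 := final_step (Algebra.adjoin A (Set.range t)) g₀ htr _ hgens hnoethI 𝔔₁ h𝔔₁min'
    hg𝔔₁ halgR₀ (σ : S) h a haS heqS
  exact σ.2 (h𝔔₁le hσ𝔔)

end Core

/-- **S1404**. -/
theorem horiz_main {A B : Type u} [CommRing A] [CommRing B] [IsDomain A] [IsDomain B]
    [IsLocalRing A] [IsLocalRing B] [Algebra A B] [IsLocalHom (algebraMap A B)]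
    [FaithfulSMul A B] [Algebra.EssFiniteType A B]
    (g : B) (hg : g ∈ maximalIdeal B)
    (hmin : ∀ q ∈ (Ideal.map (algebraMap A B) (maximalIdeal A)).minimalPrimes, g ∉ q)
    (d e : ℕ) (hd : ringKrullDim (B ⧸ Ideal.map (algebraMap A B) (maximalIdeal A)) = d)
    (he : Algebra.trdeg (ResidueField A) (ResidueField B) = e)
    (hsum : Algebra.trdeg A B = (d + e : ℕ)) :
    Function.Injective (algebraMap A (B ⧸ Ideal.span {g})) := by
  obtain ⟨S₀, M, hft, hloc⟩ := (Algebra.essFiniteType_iff_exists_subalgebra A B).mp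
    (inferInstance : Algebra.EssFiniteType A B)
  haveI : FaithfulSMul A S₀ := by
    rw [faithfulSMul_iff_algebraMap_injective]
    intro x y hxy
    apply FaithfulSMul.algebraMap_injective A B
    have := congrArg (algebraMap S₀ B) hxy
    rwa [← IsScalarTower.algebraMap_apply, ← IsScalarTower.algebraMap_apply] at this
  haveI : FaithfulSMul S₀ B :=
    (faithfulSMul_iff_algebraMap_injective _ _).mpr Subtype.val_injective
  haveI h𝔓 : ((maximalIdeal B).comap (algebraMap S₀ B)).IsPrime := Ideal.comap_isPrime _ _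
  haveI : IsLocalization.AtPrime B ((maximalIdeal B).comap (algebraMap S₀ B)) := by
    refine IsLocalization.of_le M _ ?_ ?_
    · intro m hm
      show m ∉ (maximalIdeal B).comap (algebraMap S₀ B)
      rw [Ideal.mem_comap]
      intro hmem
      exact (IsLocalRing.mem_maximalIdeal _).mp hmem (IsLocalization.map_units B ⟨m, hm⟩)
    · intro r hr
      have hnm : algebraMap S₀ B r ∉ maximalIdeal B := fun h => hr (Ideal.mem_comap.mpr h)
      exact IsLocalRing.notMem_maximalIdeal.mp hnm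
  obtain ⟨⟨g₀, s⟩, hgs⟩ :=
    IsLocalization.surj ((maximalIdeal B).comap (algebraMap S₀ B)).primeCompl g
  have hgs' : g * algebraMap S₀ B (s : S₀) = algebraMap S₀ B g₀ := hgs
  obtain ⟨u, hu⟩ := IsLocalization.map_units B s
  have hg₀ : g₀ ∈ (maximalIdeal B).comap (algebraMap S₀ B) := by
    rw [Ideal.mem_comap, ← hgs']
    exact Ideal.mul_mem_right _ _ hg
  have hmin' : ∀ q ∈ (Ideal.map (algebraMap A B) (maximalIdeal A)).minimalPrimes,
      algebraMap S₀ B g₀ ∉ q := by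
    intro q hq hmem
    have hqp : q.IsPrime := hq.1.1
    rw [← hgs'] at hmem
    rcases hqp.mem_or_mem hmem with h1 | h1
    · exact hmin q hq h1
    · rw [← hu] at h1
      exact hqp.ne_top (Ideal.eq_top_of_isUnit_mem _ h1 u.isUnit)
  have hspan : Ideal.span {g} = Ideal.span {algebraMap S₀ B g₀} := by
    rw [← hgs', ← hu]
    exact (Ideal.span_singleton_mul_right_unit u.isUnit g).symm
  rw [injective_iff_map_eq_zero]
  intro a ha
  have h1 : algebraMap A B a ∈ Ideal.span {g} := by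
    rw [IsScalarTower.algebraMap_apply A B (B ⧸ Ideal.span {g}), Ideal.Quotient.algebraMap_eq,
      Ideal.Quotient.eq_zero_iff_mem] at ha
    exact ha
  rw [hspan] at h1
  exact horiz_core (S := S₀) ((maximalIdeal B).comap (algebraMap S₀ B)) g₀ hg₀ hmin' d e hd he
    hsum a h1

end Groth.Agent.Helper7.FibTrdeg
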